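import Mathlib.CategoryTheory.Galois.Equivalence
import Groth.Prelude.Def_Pi1X

/-! Toolkit for Galois categories and the maps of fundamental groups induced by exact functors. -/

set_option autoImplicit false

universe u v w

open CategoryTheory CategoryTheory.Limits CategoryTheory.PreGaloisCategory
open scoped FintypeCatDiscrete

namespace Groth.Agent.GalCat

variable {C : Type u} [Category.{v} C] [GaloisCategory C] (F : C ⥤ FintypeCat.{w}) [FiberFunctor F]

theorem exists_lift_fintype (S : Type w) [Finite S] [MulAction (Aut F) S]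
    (h : ∀ s : S, IsOpen (MulAction.stabilizer (Aut F) s : Set (Aut F))) :
    ∃ (X : C) (e : F.obj X ≃ S), ∀ (σ : Aut F) (x : F.obj X), e (σ • x) = σ • e x := by
  let Y : Action FintypeCat.{w} (Aut F) := Action.FintypeCat.ofMulAction (Aut F) (FintypeCat.of S)
  have hY : Action.IsContinuous Y := by
    haveI : DiscreteTopology ((CategoryTheory.forget₂ (Action FintypeCat.{w} (Aut F)) TopCat).obj Y) := ⟨rfl⟩
    exact continuousSMul_iff_stabilizer_isOpen.mpr fun s => h s
  let X := (functorToContAction F).objPreimage ⟨Y, hY⟩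
  let e := (functorToContAction F).objObjPreimageIso ⟨Y, hY⟩
  let e' : (functorToAction F).obj X ≅ Y := (ObjectProperty.ι _).mapIso e
  refine ⟨X, FintypeCat.equivEquivIso.symm ((Action.forget _ _).mapIso e'), fun σ x => ?_⟩
  exact ConcreteCategory.congr_hom (e'.hom.comm σ) x

theorem exists_hom_of_equivariant {X Y : C} (f : F.obj X → F.obj Y)
    (h : ∀ (σ : Aut F) x, f (σ • x) = σ • f x) : ∃ φ : X ⟶ Y, ∀ x, F.map φ x = f x := by
  let g : (functorToAction F).obj X ⟶ (functorToAction F).obj Y :=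
    { hom := FintypeCat.homMk f
      comm := fun σ => FintypeCat.hom_ext _ _ fun x => h σ x }
  obtain ⟨φ, hφ⟩ := (functorToAction F).map_surjective g
  exact ⟨φ, fun x => ConcreteCategory.congr_hom (congrArg Action.Hom.hom hφ) x⟩

theorem exists_component {X : C} (x : F.obj X) :
    ∃ (Y : C) (i : Y ⟶ X) (y : F.obj Y), F.map i y = x ∧ IsConnected Y ∧ Mono i ∧
      Function.Injective (F.map i) ∧ MulAction.stabilizer (Aut F) y = MulAction.stabilizer (Aut F) x := by
  obtain ⟨Y, i, y, hy, hc, hm⟩ := fiber_in_connected_component F X x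
  have hinj : Function.Injective (F.map i) := ConcreteCategory.injective_of_mono_of_preservesPullback (F.map i)
  refine ⟨Y, i, y, hy, hc, hm, hinj, ?_⟩
  ext σ
  simp only [MulAction.mem_stabilizer_iff]
  rw [← hy, mulAction_naturality]
  exact ⟨fun h => congrArg _ h, fun h => hinj h⟩

theorem exists_connected_of_openSubgroup (U : OpenSubgroup (Aut F)) :
    ∃ (A : C) (a : F.obj A), IsConnected A ∧ MulAction.stabilizer (Aut F) a = U.toSubgroup := by
  haveI : Finite (Aut F ⧸ U.toSubgroup) := U.toSubgroup.quotient_finite_of_isOpen U.isOpen'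
  obtain ⟨n, ⟨e⟩⟩ := Finite.exists_equiv_fin (Aut F ⧸ U.toSubgroup)
  let e' : (Aut F ⧸ U.toSubgroup) ≃ ULift.{w} (Fin n) := e.trans Equiv.ulift.symm
  letI : MulAction (Aut F) (ULift.{w} (Fin n)) :=
    { smul := fun σ s => e' (σ • e'.symm s)
      one_smul := fun s => by show e' ((1 : Aut F) • e'.symm s) = s; rw [one_smul, e'.apply_symm_apply]
      mul_smul := fun σ τ s => by
        show e' ((σ * τ) • e'.symm s) = e' (σ • e'.symm (e' (τ • e'.symm s)))
        rw [e'.symm_apply_apply, mul_smul] }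
  have hstab : ∀ s, MulAction.stabilizer (Aut F) s = MulAction.stabilizer (Aut F) (e'.symm s) := fun s => by
    ext σ
    simp only [MulAction.mem_stabilizer_iff]
    exact ⟨fun h => e'.injective (h.trans (e'.apply_symm_apply s).symm), fun h =>
      (congrArg e' h).trans (e'.apply_symm_apply s)⟩
  have hU : MulAction.stabilizer (Aut F) ((QuotientGroup.mk 1 : Aut F ⧸ U.toSubgroup)) = U.toSubgroup :=
    MulAction.stabilizer_quotient _
  have hopen : ∀ q : Aut F ⧸ U.toSubgroup, IsOpen (MulAction.stabilizer (Aut F) q : Set (Aut F)) := fun q => by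
    obtain ⟨τ, rfl⟩ := QuotientGroup.mk_surjective q
    have : ((MulAction.stabilizer (Aut F) (QuotientGroup.mk τ : Aut F ⧸ U.toSubgroup)) : Set (Aut F)) =
        (fun σ => τ⁻¹ * σ * τ) ⁻¹' (U : Set (Aut F)) := by
      ext σ
      simp only [SetLike.mem_coe, MulAction.mem_stabilizer_iff, Set.mem_preimage]
      show (QuotientGroup.mk (σ * τ) : Aut F ⧸ U.toSubgroup) = QuotientGroup.mk τ ↔ _
      rw [eq_comm, QuotientGroup.eq, ← mul_assoc]
      exact Iff.rfl
    rw [this]
    exact U.isOpen'.preimage (by fun_prop)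
  obtain ⟨X, f, hf⟩ := exists_lift_fintype F (ULift.{w} (Fin n)) (fun s => hstab s ▸ hopen _)
  obtain ⟨A, i, a, -, hc, -, -, hs⟩ := exists_component F (f.symm (e' (QuotientGroup.mk 1)))
  refine ⟨A, a, hc, hs.trans (Eq.trans ?_ hU)⟩
  ext σ
  simp only [MulAction.mem_stabilizer_iff]
  rw [← f.injective.eq_iff, hf, f.apply_symm_apply]
  show e' (σ • e'.symm (e' _)) = _ ↔ _
  rw [e'.symm_apply_apply, e'.injective.eq_iff]

theorem exists_hom_of_stabilizer_le {X Y : C} [IsConnected X] (x : F.obj X) (y : F.obj Y)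
    (h : MulAction.stabilizer (Aut F) x ≤ MulAction.stabilizer (Aut F) y) : ∃ φ : X ⟶ Y, F.map φ x = y := by
  classical
  choose g hg using fun z : F.obj X => MulAction.exists_smul_eq (Aut F) x z
  have key : ∀ σ τ : Aut F, σ • x = τ • x → σ • y = τ • y := fun σ τ hst => by
    have h1 : τ⁻¹ * σ ∈ MulAction.stabilizer (Aut F) x := by
      rw [MulAction.mem_stabilizer_iff, mul_smul, hst, inv_smul_smul]
    have h2 := h h1
    rw [MulAction.mem_stabilizer_iff, mul_smul, inv_smul_eq_iff] at h2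
    exact h2
  obtain ⟨φ, hφ⟩ := exists_hom_of_equivariant F (fun z => g z • y) (fun σ z => by
    rw [← mul_smul]
    exact key _ _ (by rw [hg, mul_smul, hg]))
  exact ⟨φ, by rw [hφ]; exact (key _ 1 (by rw [hg, one_smul])).trans (one_smul _ _)⟩

theorem isOpen_stabilizer {X : C} (x : F.obj X) : IsOpen (MulAction.stabilizer (Aut F) x : Set (Aut F)) :=
  stabilizer_isOpen _ x

/-! ### the terminal object -/

theorem nonempty_fiber_terminal : Nonempty (F.obj (⊤_ C)) :=
  ⟨((IsTerminal.isTerminalObj F _ (terminalIsTerminal)).from (FintypeCat.of PUnit)) PUnit.unit⟩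

theorem subsingleton_fiber_terminal : Subsingleton (F.obj (⊤_ C)) :=
  ⟨fun a b => by
    have h := (IsTerminal.isTerminalObj F _ (terminalIsTerminal)).hom_ext
      (FintypeCat.homMk fun _ : PUnit.{w + 1} => a : FintypeCat.of PUnit ⟶ F.obj (⊤_ C))
      (FintypeCat.homMk fun _ => b)
    exact ConcreteCategory.congr_hom h PUnit.unit⟩

theorem exists_section_iff {X : C} (x : F.obj X) :
    (∃ s : ⊤_ C ⟶ X, ∀ t : F.obj (⊤_ C), F.map s t = x) ↔ ∀ σ : Aut F, σ • x = x := by
  haveI := subsingleton_fiber_terminal F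
  obtain ⟨t₀⟩ := nonempty_fiber_terminal F
  refine ⟨fun ⟨s, hs⟩ σ => ?_, fun h => ?_⟩
  · rw [← hs t₀, mulAction_naturality, Subsingleton.elim (σ • t₀) t₀]
  · obtain ⟨φ, hφ⟩ := exists_hom_of_equivariant F (fun _ : F.obj (⊤_ C) => x) (fun σ _ => (h σ).symm)
    exact ⟨φ, hφ⟩

theorem iso_coprod_terminal_iff {X : C} :
    (∃ n : ℕ, Nonempty (X ≅ ∐ fun _ : Fin n => ⊤_ C)) ↔ ∀ (σ : Aut F) (x : F.obj X), σ • x = x := by
  haveI := subsingleton_fiber_terminal F
  obtain ⟨t₀⟩ := nonempty_fiber_terminal F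
  constructor
  · rintro ⟨n, ⟨e⟩⟩ σ x
    obtain ⟨⟨j⟩, t, ht⟩ := Limits.FintypeCat.jointly_surjective (Discrete.functor (fun _ : Fin n => ⊤_ C) ⋙ F) _
      (isColimitOfPreserves F (coproductIsCoproduct (fun _ : Fin n => ⊤_ C))) (F.map e.hom x)
    apply ((FintypeCat.equivEquivIso.symm (F.mapIso e)).injective)
    show F.map e.hom (σ • x) = F.map e.hom x
    rw [← mulAction_naturality, ← ht]
    exact (mulAction_naturality F σ _ t).trans (congrArg _ (Subsingleton.elim (α := F.obj (⊤_ C)) _ _))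
  · intro h
    obtain ⟨n, ⟨q⟩⟩ := Finite.exists_equiv_fin (F.obj X)
    choose s hs using fun j : Fin n => (exists_section_iff F (q.symm j)).2 fun σ => h σ _
    let d : (∐ fun _ : Fin n => ⊤_ C) ⟶ X := Sigma.desc s
    have hsurj : Function.Surjective (F.map d) := fun x => ⟨F.map (Sigma.ι (fun _ : Fin n => ⊤_ C) (q x)) t₀, by
      rw [← FintypeCat.comp_apply, ← F.map_comp, Sigma.ι_desc, hs, q.symm_apply_apply]⟩
    have hinj : Function.Injective (F.map d) := by
      intro a b hab
      obtain ⟨⟨i⟩, t, rfl⟩ := Limits.FintypeCat.jointly_surjective (Discrete.functor (fun _ : Fin n => ⊤_ C) ⋙ F) _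
        (isColimitOfPreserves F (coproductIsCoproduct (fun _ : Fin n => ⊤_ C))) a
      obtain ⟨⟨j⟩, t', rfl⟩ := Limits.FintypeCat.jointly_surjective (Discrete.functor (fun _ : Fin n => ⊤_ C) ⋙ F) _
        (isColimitOfPreserves F (coproductIsCoproduct (fun _ : Fin n => ⊤_ C))) b
      have hval : ∀ (i : Fin n) (t : F.obj (⊤_ C)), F.map d (F.map (Sigma.ι (fun _ : Fin n => ⊤_ C) i) t) = q.symm i :=
        fun i t => by rw [← FintypeCat.comp_apply, ← F.map_comp, Sigma.ι_desc, hs]
      obtain rfl : i = j := q.symm.injective ((hval i t).symm.trans (hab.trans (hval j t')))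
      exact congrArg _ (Subsingleton.elim (α := F.obj (⊤_ C)) t t')
    haveI : IsIso (F.map d) := (ConcreteCategory.isIso_iff_bijective _).2 ⟨hinj, hsurj⟩
    haveI : IsIso d := isIso_of_reflects_iso d F
    exact ⟨n, ⟨(asIso d).symm⟩⟩

/-! ### the induced map -/

variable {C' : Type u} [Category.{v} C'] [GaloisCategory C'] (H : C ⥤ C') (F' : C' ⥤ FintypeCat.{w})
  [FiberFunctor F']

theorem autWhisker_smul (σ : Aut F') {X : C} (x : (H ⋙ F').obj X) :
    Pi1X.autWhisker H F' σ • x = σ • (show F'.obj (H.obj X) from x) := rfl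

theorem continuous_autWhisker : Continuous (Pi1X.autWhisker H F') := by
  rw [Topology.IsInducing.continuous_iff (autEmbedding_isClosedEmbedding _).isInducing, continuous_pi_iff]
  intro X
  exact (continuous_apply (H.obj X)).comp (autEmbedding_isClosedEmbedding F').continuous

theorem isClosed_range_autWhisker : IsClosed (Set.range (Pi1X.autWhisker H F')) :=
  (isCompact_range (continuous_autWhisker H F')).isClosed

variable [FiberFunctor (H ⋙ F')]

/-- closed subgroups are intersections of open subgroups, in the form used here -/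
theorem exists_openSubgroup_of_notMem {K : Subgroup (Aut F)} (hK : IsClosed (K : Set (Aut F))) {σ : Aut F}
    (hσ : σ ∉ K) : ∃ U : OpenSubgroup (Aut F), K ≤ U.toSubgroup ∧ σ ∉ U := by
  have h1 : (fun τ => σ * τ) ⁻¹' (K : Set (Aut F))ᶜ ∈ nhds (1 : Aut F) :=
    (hK.isOpen_compl.preimage (by fun_prop)).mem_nhds (by simpa using hσ)
  obtain ⟨A, -, hA⟩ := (nhds_one_has_basis_stabilizers F).mem_iff.1 h1
  let N : Subgroup (Aut F) := MulAction.stabilizer (Aut F) A.pt
  haveI : N.Normal := stabilizer_normal_of_isGalois F A A.pt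
  refine ⟨⟨N ⊔ K, Subgroup.isOpen_mono le_sup_left (isOpen_stabilizer F A.pt)⟩, le_sup_right, fun h => ?_⟩
  obtain ⟨m, hm, k, hk, hmk⟩ : ∃ m ∈ N, ∃ k ∈ K, m * k = σ := by
    have h' : σ ∈ ((N ⊔ K : Subgroup (Aut F)) : Set (Aut F)) := h
    rw [Subgroup.normal_mul] at h'
    obtain ⟨m, hm, k, hk, e⟩ := Set.mem_mul.1 h'
    exact ⟨m, hm, k, hk, e⟩
  have h2 : σ⁻¹ * m⁻¹ * σ ∈ N := by simpa using ‹N.Normal›.conj_mem _ (N.inv_mem hm) σ⁻¹
  have h3 := hA h2
  simp only [Set.mem_preimage, Set.mem_compl_iff, SetLike.mem_coe] at h3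
  apply h3
  rw [← mul_assoc, ← mul_assoc, mul_inv_cancel, one_mul, ← hmk, inv_mul_cancel_left]
  exact hk

end Groth.Agent.GalCat
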