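import Groth.Agent.GalCat.Basic

/-! The dictionary between exact functors of Galois categories and maps of fundamental groups. -/

set_option autoImplicit false

universe u v w

open CategoryTheory CategoryTheory.Limits CategoryTheory.PreGaloisCategory
open scoped FintypeCatDiscrete

namespace Groth.Agent.GalCat

section basic

variable {C : Type u} [Category.{v} C] [GaloisCategory C] (F : C ⥤ FintypeCat.{w}) [FiberFunctor F]

theorem eq_one_of_smul {σ : Aut F} (h : ∀ (X : C) (x : F.obj X), σ • x = x) : σ = 1 :=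
  Iso.ext (NatTrans.ext (funext fun X => FintypeCat.hom_ext _ _ fun x => h X x))

theorem eq_one_of_smul_connected {σ : Aut F} (h : ∀ (X : C), IsConnected X → ∀ x : F.obj X, σ • x = x) :
    σ = 1 := by
  refine eq_one_of_smul F fun X x => ?_
  obtain ⟨Y, i, y, hy, hc, -, -, -⟩ := exists_component F x
  rw [← hy, mulAction_naturality, h Y hc]

theorem isConnected_of_transitive {X : C} (x₀ : F.obj X) (h : ∀ x : F.obj X, ∃ σ : Aut F, σ • x₀ = x) :
    IsConnected X where
  notInitial := not_initial_of_inhabited F x₀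
  noTrivialComponent Y i _ hY := by
    obtain ⟨y⟩ := (not_initial_iff_fiber_nonempty F Y).1 hY
    haveI : IsIso (F.map i) := by
      refine (ConcreteCategory.isIso_iff_bijective _).2
        ⟨ConcreteCategory.injective_of_mono_of_preservesPullback (F.map i), fun x => ?_⟩
      obtain ⟨τ, hτ⟩ := h (F.map i y)
      obtain ⟨σ, hσ⟩ := h x
      refine ⟨(σ * τ⁻¹) • y, ?_⟩
      rw [← mulAction_naturality, mul_smul, ← hτ, inv_smul_smul, hσ]
    exact isIso_of_reflects_iso i F

theorem fiberFunctor_of_iso {F' : C ⥤ FintypeCat.{w}} (e : F' ≅ F) : FiberFunctor F' where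
  preservesTerminalObjects := preservesLimitsOfShape_of_natIso e.symm
  preservesPullbacks := preservesLimitsOfShape_of_natIso e.symm
  preservesFiniteCoproducts := ⟨fun _ => preservesColimitsOfShape_of_natIso e.symm⟩
  preservesEpis := Functor.preservesEpimorphisms.of_iso e.symm
  preservesQuotientsByFiniteGroups _ := preservesColimitsOfShape_of_natIso e.symm
  reflectsIsos := reflectsIsomorphisms_of_iso e.symm

end basic

section induced

variable {C C' : Type u} [Category.{v} C] [Category.{v} C'] [GaloisCategory C] [GaloisCategory C']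
  (H : C ⥤ C') (F' : C' ⥤ FintypeCat.{w}) [FiberFunctor F'] [FiberFunctor (H ⋙ F')]

theorem range_le_stabilizer_iff {X : C} (a : (H ⋙ F').obj X) :
    (Pi1X.autWhisker H F').range ≤ MulAction.stabilizer (Aut (H ⋙ F')) a ↔
      ∃ s : ⊤_ C' ⟶ H.obj X, ∀ t : F'.obj (⊤_ C'), F'.map s t = a := by
  refine Iff.trans ?_ (exists_section_iff F' (X := H.obj X) a).symm
  exact ⟨fun h σ => h ⟨σ, rfl⟩, fun h => by rintro _ ⟨σ, rfl⟩; exact h σ⟩

theorem normalClosure_range_le_stabilizer_iff {X : C} [IsConnected X] (a : (H ⋙ F').obj X) :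
    Subgroup.normalClosure ((Pi1X.autWhisker H F').range : Set (Aut (H ⋙ F'))) ≤
        MulAction.stabilizer (Aut (H ⋙ F')) a ↔
      ∃ n : ℕ, Nonempty (H.obj X ≅ ∐ fun _ : Fin n => ⊤_ C') := by
  refine Iff.trans ?_ (iso_coprod_terminal_iff F' (X := H.obj X)).symm
  constructor
  · intro h σ x
    obtain ⟨τ, hτ⟩ := MulAction.exists_smul_eq (Aut (H ⋙ F')) a (show (H ⋙ F').obj X from x)
    have h1 : τ⁻¹ * Pi1X.autWhisker H F' σ * τ⁻¹⁻¹ ∈ MulAction.stabilizer (Aut (H ⋙ F')) a :=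
      h (Subgroup.Normal.conj_mem inferInstance _ (Subgroup.subset_normalClosure (show Pi1X.autWhisker H F' σ ∈ ((Pi1X.autWhisker H F').range : Set (Aut (H ⋙ F'))) from ⟨σ, rfl⟩)) τ⁻¹)
    rw [inv_inv, MulAction.mem_stabilizer_iff, mul_smul, mul_smul, inv_smul_eq_iff, hτ] at h1
    exact h1
  · intro h
    refine le_trans (Subgroup.normalClosure_le_normal (N := (MulAction.toPermHom (Aut (H ⋙ F'))
      ((H ⋙ F').obj X)).ker) ?_) ?_
    · rintro _ ⟨σ, rfl⟩
      exact MonoidHom.mem_ker.2 (Equiv.ext fun x => h σ x)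
    · intro τ hτ
      exact Equiv.congr_fun (MonoidHom.mem_ker.1 hτ) a

theorem surjective_of_sections (h : ∀ (A : C), IsConnected A → ∀ a : (H ⋙ F').obj A,
      (∃ s : ⊤_ C' ⟶ H.obj A, ∀ t : F'.obj (⊤_ C'), F'.map s t = a) → ∀ τ : Aut (H ⋙ F'), τ • a = a) :
    Function.Surjective (Pi1X.autWhisker H F') := by
  intro σ
  by_contra hσ
  have hσ' : σ ∉ (Pi1X.autWhisker H F').range := hσ
  obtain ⟨U, hKU, hσU⟩ := exists_openSubgroup_of_notMem (H ⋙ F')
    (K := (Pi1X.autWhisker H F').range) (isClosed_range_autWhisker H F') hσ'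
  obtain ⟨A, a, hA, ha⟩ := exists_connected_of_openSubgroup (H ⋙ F') U
  have hs := (range_le_stabilizer_iff H F' a).1 (ha.symm ▸ hKU)
  exact hσU (ha ▸ h A hA a hs σ : σ ∈ U.toSubgroup)

theorem surjective_iff_full [PreservesLimitsOfShape (Discrete PEmpty.{1}) H] :
    Function.Surjective (Pi1X.autWhisker H F') ↔ (H.Full ∧ H.Faithful) := by
  refine ⟨fun hs => ⟨⟨fun {X Y} f => ?_⟩, Functor.Faithful.of_comp H F'⟩, fun ⟨hfull, _⟩ => ?_⟩
  · obtain ⟨φ, hφ⟩ := exists_hom_of_equivariant (H ⋙ F') (X := X) (Y := Y) (fun x => F'.map f x)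
      (fun τ x => by
        obtain ⟨σ, rfl⟩ := hs τ
        exact (mulAction_naturality F' σ f x).symm)
    exact ⟨φ, F'.map_injective (FintypeCat.hom_ext _ _ hφ)⟩
  · refine surjective_of_sections H F' fun A _ a ⟨s, hs⟩ => ?_
    let f : H.obj (⊤_ C) ⟶ H.obj A := (PreservesTerminal.iso H).hom ≫ s
    refine (exists_section_iff (H ⋙ F') a).1 ⟨H.preimage f, fun t => ?_⟩
    show F'.map (H.map (H.preimage f)) t = a
    rw [Functor.map_preimage, F'.map_comp]
    exact hs _

theorem ker_le_stabilizer_iff {X' : C'} [IsConnected X'] (a' : F'.obj X') :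
    (Pi1X.autWhisker H F').ker ≤ MulAction.stabilizer (Aut F') a' ↔
      ∃ (X : C) (Y' : C') (i : Y' ⟶ H.obj X) (q : Y' ⟶ X'), Mono i ∧ IsConnected Y' := by
  constructor
  · intro h
    let S : Set (Aut F') := (MulAction.stabilizer (Aut F') a' : Set (Aut F'))ᶜ
    have hS : IsClosed S := (isOpen_stabilizer F' a').isClosed_compl
    have hc : IsClosed (Pi1X.autWhisker H F' '' S) :=
      (hS.isCompact.image (continuous_autWhisker H F')).isClosed
    have h1 : (Pi1X.autWhisker H F' '' S)ᶜ ∈ nhds (1 : Aut (H ⋙ F')) :=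
      hc.isOpen_compl.mem_nhds fun ⟨σ, hσ, e⟩ => hσ (h e)
    obtain ⟨A, -, hA⟩ := (nhds_one_has_basis_stabilizers (H ⋙ F')).mem_iff.1 h1
    obtain ⟨Y', i, y, -, hY, hi, -, hst⟩ := exists_component F' (X := H.obj A.obj) A.pt
    obtain ⟨q, -⟩ := exists_hom_of_stabilizer_le F' y a' (by
      rw [hst]
      intro σ hσ
      by_contra hσ'
      exact hA (show Pi1X.autWhisker H F' σ ∈ MulAction.stabilizer (Aut (H ⋙ F')) A.pt from hσ)
        ⟨σ, hσ', rfl⟩)
    exact ⟨A.obj, Y', i, q, hi, hY⟩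
  · rintro ⟨X, Y', i, q, hi, hY⟩ σ hσ
    obtain ⟨y, rfl⟩ := surjective_of_nonempty_fiber_of_isConnected F' q a'
    have hy : σ • y = y := by
      apply ConcreteCategory.injective_of_mono_of_preservesPullback (F'.map i)
      rw [← mulAction_naturality]
      show Pi1X.autWhisker H F' σ • (show (H ⋙ F').obj X from F'.map i y) = _
      rw [MonoidHom.mem_ker.1 hσ, one_smul]
    rw [MulAction.mem_stabilizer_iff, mulAction_naturality, hy]

theorem injective_iff :
    Function.Injective (Pi1X.autWhisker H F') ↔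
      ∀ X' : C', IsConnected X' → ∃ (X : C) (Y' : C') (p : Y' ⟶ X') (q : Y' ⟶ H.obj X), Epi p ∧ Mono q := by
  constructor
  · intro h X' hX'
    obtain ⟨a'⟩ := nonempty_fiber_of_isConnected F' X'
    obtain ⟨X, Y', i, q, hi, hY⟩ := (ker_le_stabilizer_iff H F' a').1 (by
      rw [(MonoidHom.ker_eq_bot_iff _).2 h]; exact bot_le)
    exact ⟨X, Y', q, i, epi_of_nonempty_of_isConnected F' q, hi⟩
  · intro h
    refine (injective_iff_map_eq_one _).2 fun σ hσ => eq_one_of_smul_connected F' fun X' hX' x => ?_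
    obtain ⟨X, Y', p, q, hp, hq⟩ := h X' hX'
    obtain ⟨y, rfl⟩ := surjective_on_fiber_of_epi F' p x
    rw [mulAction_naturality]
    congr 1
    apply ConcreteCategory.injective_of_mono_of_preservesPullback (F'.map q)
    rw [← mulAction_naturality]
    show Pi1X.autWhisker H F' σ • (show (H ⋙ F').obj X from F'.map q y) = _
    rw [hσ, one_smul]

theorem connected_of_surjective (hs : Function.Surjective (Pi1X.autWhisker H F')) {X : C} [IsConnected X] :
    IsConnected (H.obj X) := by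
  obtain ⟨x₀⟩ := nonempty_fiber_of_isConnected (H ⋙ F') X
  refine isConnected_of_transitive F' (X := H.obj X) x₀ fun x => ?_
  obtain ⟨τ, hτ⟩ := MulAction.exists_smul_eq (Aut (H ⋙ F')) x₀ (show (H ⋙ F').obj X from x)
  obtain ⟨σ, rfl⟩ := hs τ
  exact ⟨σ, hτ⟩

theorem surjective_of_connected (h : ∀ X : C, IsConnected X → IsConnected (H.obj X)) :
    Function.Surjective (Pi1X.autWhisker H F') := by
  refine surjective_of_sections H F' fun A hA a ⟨s, hs⟩ τ => ?_
  haveI := h A hA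
  haveI := subsingleton_fiber_terminal F'
  haveI := nonempty_fiber_terminal F'
  have hsurj := surjective_of_nonempty_fiber_of_isConnected F' s
  obtain ⟨t, ht⟩ := hsurj (show F'.obj (H.obj A) from τ • a)
  exact (ht.symm.trans (hs t) : _)

end induced

section composable

variable {C C' C'' : Type u} [Category.{v} C] [Category.{v} C'] [Category.{v} C'']
  [GaloisCategory C] [GaloisCategory C'] [GaloisCategory C'']
  (H : C ⥤ C') (H' : C' ⥤ C'') (F'' : C'' ⥤ FintypeCat.{w})
  [FiberFunctor F''] [FiberFunctor (H' ⋙ F'')] [FiberFunctor (H ⋙ (H' ⋙ F''))]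

theorem comp_eq_one_iff :
    (∀ σ : Aut F'', Pi1X.autWhisker H (H' ⋙ F'') (Pi1X.autWhisker H' F'' σ) = 1) ↔
      ∀ X : C, ∃ n : ℕ, Nonempty (H'.obj (H.obj X) ≅ ∐ fun _ : Fin n => ⊤_ C'') := by
  simp only [iso_coprod_terminal_iff F'']
  refine ⟨fun h X σ x => ?_, fun h σ => eq_one_of_smul _ fun X x => h X σ x⟩
  show Pi1X.autWhisker H (H' ⋙ F'') (Pi1X.autWhisker H' F'' σ) •
    (show (H ⋙ (H' ⋙ F'')).obj X from x) = x
  rw [h, one_smul]

theorem ker_le_range_iff :
    (Pi1X.autWhisker H (H' ⋙ F'')).ker ≤ (Pi1X.autWhisker H' F'').range ↔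
      ∀ (X' : C') (a' : (H' ⋙ F'').obj X'), IsConnected X' →
        (∃ s : ⊤_ C'' ⟶ H'.obj X', ∀ t : F''.obj (⊤_ C''), F''.map s t = a') →
          ∃ (X : C) (Y' : C') (i : Y' ⟶ H.obj X) (q : Y' ⟶ X'), Mono i ∧ IsConnected Y' := by
  constructor
  · intro h X' a' hX' hs
    exact (ker_le_stabilizer_iff H (H' ⋙ F'') a').1 (h.trans ((range_le_stabilizer_iff H' F'' a').2 hs))
  · intro h σ hσ
    by_contra hσ'
    obtain ⟨U, hKU, hσU⟩ := exists_openSubgroup_of_notMem (H' ⋙ F'')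
      (K := (Pi1X.autWhisker H' F'').range) (isClosed_range_autWhisker H' F'') hσ'
    obtain ⟨A, a, hA, ha⟩ := exists_connected_of_openSubgroup (H' ⋙ F'') U
    have hle := (ker_le_stabilizer_iff H (H' ⋙ F'') a).2
      (h A a hA ((range_le_stabilizer_iff H' F'' a).1 (ha.symm ▸ hKU)))
    exact hσU (ha ▸ hle hσ : σ ∈ U.toSubgroup)

theorem exact_iff [PreservesLimitsOfShape (Discrete PEmpty.{1}) H] :
    (Function.Surjective (Pi1X.autWhisker H (H' ⋙ F'')) ∧
      (∀ σ : Aut F'', Pi1X.autWhisker H (H' ⋙ F'') (Pi1X.autWhisker H' F'' σ) = 1) ∧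
      (Pi1X.autWhisker H (H' ⋙ F'')).ker =
        (Subgroup.normalClosure (Set.range (Pi1X.autWhisker H' F''))).topologicalClosure) ↔
    ((H.Full ∧ H.Faithful) ∧
      ∀ X' : C', (∃ X : C, Nonempty (H.obj X ≅ X')) ↔ ∃ n : ℕ, Nonempty (H'.obj X' ≅ ∐ fun _ : Fin n => ⊤_ C'')) := by
  let u := Pi1X.autWhisker H (H' ⋙ F'')
  have hu : Continuous u := continuous_autWhisker H (H' ⋙ F'')
  constructor
  · rintro ⟨hs, hc, hker⟩
    refine ⟨(surjective_iff_full H (H' ⋙ F'')).1 hs, fun X' => ⟨fun ⟨X, ⟨e⟩⟩ => ?_, fun hsplit => ?_⟩⟩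
    · obtain ⟨n, ⟨e'⟩⟩ := (comp_eq_one_iff H H' F'').1 hc X
      exact ⟨n, ⟨H'.mapIso e.symm ≪≫ e'⟩⟩
    have htriv := (iso_coprod_terminal_iff F'').1 hsplit
    have hN : Subgroup.normalClosure (Set.range (Pi1X.autWhisker H' F'')) ≤
        (MulAction.toPermHom (Aut (H' ⋙ F'')) ((H' ⋙ F'').obj X')).ker :=
      Subgroup.normalClosure_le_normal (by
        rintro _ ⟨σ, rfl⟩
        exact MonoidHom.mem_ker.2 (Equiv.ext fun x => htriv σ x))
    have hkerX : ∀ σ ∈ u.ker, ∀ x : (H' ⋙ F'').obj X', σ • x = x := fun σ hσ x => by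
      rw [hker] at hσ
      exact (Subgroup.topologicalClosure_minimal _ (fun τ hτ => Equiv.congr_fun (MonoidHom.mem_ker.1 (hN hτ)) x)
        ((MulAction.stabilizer (Aut (H' ⋙ F'')) x).isClosed_of_isOpen (isOpen_stabilizer _ x)) hσ : _)
    let g := Function.surjInv hs
    have hg : ∀ τ, u (g τ) = τ := Function.surjInv_eq hs
    have key : ∀ σ σ' : Aut (H' ⋙ F''), u σ = u σ' → ∀ x : (H' ⋙ F'').obj X', σ • x = σ' • x :=
      fun σ σ' h x => by
        rw [← inv_smul_eq_iff, ← mul_smul]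
        exact hkerX _ (MonoidHom.mem_ker.2 (by rw [map_mul, map_inv, h, inv_mul_cancel])) x
    letI : MulAction (Aut (H ⋙ (H' ⋙ F''))) ((H' ⋙ F'').obj X') :=
      { smul := fun τ x => g τ • x
        one_smul := fun x => (key _ 1 (by rw [hg, map_one]) x).trans (one_smul _ x)
        mul_smul := fun τ τ' x => (key _ (g τ * g τ') (by rw [hg, map_mul, hg, hg]) x).trans (mul_smul _ _ x) }
    have hopen : ∀ x : (H' ⋙ F'').obj X',
        IsOpen (MulAction.stabilizer (Aut (H ⋙ (H' ⋙ F''))) x : Set (Aut (H ⋙ (H' ⋙ F'')))) := fun x => by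
      rw [← (hu.isClosedMap.isQuotientMap hu hs).isOpen_preimage]
      convert isOpen_stabilizer (H' ⋙ F'') x
      ext σ
      exact ⟨fun h => (key _ _ (hg (u σ)).symm x).trans h, fun h => (key _ _ (hg (u σ)) x).trans h⟩
    obtain ⟨X, e, he⟩ := exists_lift_fintype (H ⋙ (H' ⋙ F'')) ((H' ⋙ F'').obj X') hopen
    obtain ⟨φ, hφ⟩ := exists_hom_of_equivariant (H' ⋙ F'') (X := H.obj X) (Y := X') e (fun σ x =>
      (he (u σ) x).trans (key _ _ (hg (u σ)) (e x)))
    haveI : IsIso ((H' ⋙ F'').map φ) := (ConcreteCategory.isIso_iff_bijective _).2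
      ⟨fun a b h => e.injective ((hφ a).symm.trans (h.trans (hφ b))),
        fun y => ⟨e.symm y, (hφ _).trans (e.apply_symm_apply y)⟩⟩
    haveI : IsIso φ := isIso_of_reflects_iso φ (H' ⋙ F'')
    exact ⟨X, ⟨asIso φ⟩⟩
  · rintro ⟨hff, himg⟩
    have hc := (comp_eq_one_iff H H' F'').2 fun X => (himg (H.obj X)).1 ⟨X, ⟨Iso.refl _⟩⟩
    refine ⟨(surjective_iff_full H (H' ⋙ F'')).2 hff, hc, le_antisymm (fun σ hσ => ?_)
      (Subgroup.topologicalClosure_minimal _
        (Subgroup.normalClosure_le_normal (by rintro _ ⟨τ, rfl⟩; exact MonoidHom.mem_ker.2 (hc τ)))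
        (isClosed_singleton.preimage hu))⟩
    by_contra hσ'
    obtain ⟨U, hKU, hσU⟩ := exists_openSubgroup_of_notMem (H' ⋙ F'')
      (Subgroup.isClosed_topologicalClosure _) hσ'
    obtain ⟨A, a, hA, ha⟩ := exists_connected_of_openSubgroup (H' ⋙ F'') U
    have hsplit := (normalClosure_range_le_stabilizer_iff H' F'' a).1 (by
      rw [MonoidHom.coe_range, ha]
      exact (Subgroup.le_topologicalClosure _).trans hKU)
    obtain ⟨X, ⟨e⟩⟩ := (himg A).2 hsplit
    have : σ • a = a := by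
      obtain ⟨x, rfl⟩ : ∃ x, (H' ⋙ F'').map e.hom x = a :=
        ⟨(H' ⋙ F'').map e.inv a, by rw [← FintypeCat.comp_apply, ← Functor.map_comp, e.inv_hom_id,
          CategoryTheory.Functor.map_id]; rfl⟩
      rw [mulAction_naturality]
      congr 1
      show u σ • (show (H ⋙ (H' ⋙ F'')).obj X from x) = x
      rw [MonoidHom.mem_ker.1 hσ, one_smul]
    exact hσU (ha ▸ this : σ ∈ U.toSubgroup)

end composable

end Groth.Agent.GalCat
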