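import Groth.Agent.GalCat.Main

/-! Exact functors from Galois categories to finite sets are fibre functors. -/

set_option autoImplicit false

universe u v w

open CategoryTheory CategoryTheory.Limits CategoryTheory.PreGaloisCategory
open scoped FintypeCatDiscrete

namespace Groth.Agent.GalCat

variable {C : Type u} [Category.{v} C] [GaloisCategory C] (F : C ⥤ FintypeCat.{w}) [FiberFunctor F]

/-- Mathlib has this only for fibre functors in the universe of the morphisms. -/
instance isCofilteredOrEmpty_pointed : IsCofilteredOrEmpty (PointedGaloisObject F) where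
  cone_objs := fun ⟨A, a, _⟩ ⟨B, b, _⟩ ↦ by
    obtain ⟨Z, f, z, hgal, hfz⟩ := exists_hom_from_galois_of_fiber F (A ⨯ B)
      <| (fiberBinaryProductEquiv F A B).symm (a, b)
    refine ⟨⟨Z, z, hgal⟩, ⟨f ≫ prod.fst, ?_⟩, ⟨f ≫ prod.snd, ?_⟩, trivial⟩
    · simp only [F.map_comp, hfz, FintypeCat.comp_apply, fiberBinaryProductEquiv_symm_fst_apply]
    · simp only [F.map_comp, hfz, FintypeCat.comp_apply, fiberBinaryProductEquiv_symm_snd_apply]
  cone_maps := fun ⟨A, a, _⟩ ⟨B, b, _⟩ ⟨f, hf⟩ ⟨g, hg⟩ ↦ by
    obtain ⟨Z, h, z, hgal, hhz⟩ := exists_hom_from_galois_of_fiber F A a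
    refine ⟨⟨Z, z, hgal⟩, ⟨h, hhz⟩, PointedGaloisObject.hom_ext ?_⟩
    apply evaluation_injective_of_isConnected F Z B z
    simp [hhz, hf, hg]

variable (F' : C ⥤ FintypeCat.{w}) [PreservesFiniteLimits F'] [PreservesColimitsOfShape (Discrete WalkingPair) F']

omit [PreservesFiniteLimits F'] in
theorem isEmpty_of_isInitial {X : C} (hX : IsInitial X) : IsEmpty (F'.obj X) := by
  let hc : IsColimit (BinaryCofan.mk (𝟙 X) (𝟙 X)) :=
    BinaryCofan.IsColimit.mk _ (fun f _ => f) (fun f _ => Category.id_comp f) (fun f g => hX.hom_ext _ _)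
      (fun f g m h₁ _ => (Category.id_comp m).symm.trans h₁)
  have h := mapIsColimitOfPreservesOfIsColimit F' _ _ hc
  refine ⟨fun x => ?_⟩
  obtain ⟨d, hd₁, hd₂⟩ := BinaryCofan.IsColimit.desc' h
    (FintypeCat.homMk fun _ => (ULift.up true : ULift.{w} Bool) : F'.obj X ⟶ FintypeCat.of (ULift.{w} Bool))
    (FintypeCat.homMk fun _ => ULift.up false)
  have e₁ := ConcreteCategory.congr_hom hd₁ x
  have e₂ := ConcreteCategory.congr_hom hd₂ x
  simp only [BinaryCofan.mk_inl, BinaryCofan.mk_inr, CategoryTheory.Functor.map_id, Category.id_comp] at e₁ e₂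
  exact Bool.noConfusion (congrArg ULift.down (e₁.symm.trans e₂))

theorem preservesColimitsOfShape_discrete (J : Type) [Finite J] :
    PreservesColimitsOfShape (Discrete J) F' := by
  haveI : PreservesColimit (Functor.empty.{0} C) F' := by
    haveI := isEmpty_of_isInitial F' (initialIsInitial (C := C))
    let h : IsInitial (F'.obj (⊥_ C)) := IsInitial.ofUniqueHom
      (fun Y => FintypeCat.homMk fun x => isEmptyElim x) fun Y m => FintypeCat.hom_ext _ _ fun x => isEmptyElim x
    haveI : IsIso (initialComparison F') := by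
      haveI : HasInitial FintypeCat.{w} := h.hasInitial
      exact ⟨h.to _, initialIsInitial.hom_ext _ _, h.hom_ext _ _⟩
    exact PreservesInitial.of_iso_comparison F'
  haveI : PreservesColimitsOfShape (Discrete.{0} PEmpty) F' :=
    preservesColimitsOfShape_pempty_of_preservesInitial F'
  exact PreservesFiniteCoproducts.of_preserves_binary_and_initial F' J

variable (hF : ∀ X : C, IsEmpty (F'.obj X) → Nonempty (IsInitial X))
include hF

theorem nonempty_of_connected (A : C) [IsConnected A] : Nonempty (F'.obj A) := by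
  by_contra h
  exact (hF A (not_nonempty_iff.1 h)).elim IsConnected.notInitial

omit hF in
theorem evaluation_injective' {A X : C} [IsConnected A] (a : F'.obj A) :
    Function.Injective fun f : A ⟶ X => F'.map f a := by
  intro f g (h : F'.map f a = F'.map g a)
  haveI : IsIso (equalizer.ι f g) := by
    refine IsConnected.noTrivialComponent _ _ fun hI => (isEmpty_of_isInitial F' hI).false ?_
    obtain ⟨l, -⟩ := Fork.IsLimit.lift' (isLimitForkMapOfIsLimit F' _ (equalizerIsEqualizer f g))
      (FintypeCat.homMk fun _ : PUnit.{w + 1} => a : FintypeCat.of PUnit ⟶ F'.obj A)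
      (FintypeCat.hom_ext _ _ fun _ => h)
    exact l PUnit.unit
  exact eq_of_epi_equalizer

omit hF in
theorem evaluation_surjective' {A X : C} [IsConnected A]
    (hb : ∀ b : F.obj A, Function.Bijective fun f : A ⟶ X => F.map f b) (a : F'.obj A) :
    Function.Surjective fun f : A ⟶ X => F'.map f a := by
  intro y
  obtain ⟨n, ⟨q⟩⟩ := Finite.exists_equiv_fin (A ⟶ X)
  let c : Fin n → (A ⟶ A ⨯ X) := fun j => prod.lift (𝟙 A) (q.symm j)
  let d : (∐ fun _ : Fin n => A) ⟶ A ⨯ X := Sigma.desc c
  have hval : ∀ j b, F.map d (F.map (Sigma.ι (fun _ : Fin n => A) j) b) = F.map (c j) b := fun j b => by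
    rw [← FintypeCat.comp_apply, ← F.map_comp, Sigma.ι_desc]
  have hfst : ∀ j b, F.map prod.fst (F.map (c j) b) = b := fun j b => by
    rw [← FintypeCat.comp_apply, ← F.map_comp, prod.lift_fst, CategoryTheory.Functor.map_id]; rfl
  have hsnd : ∀ j b, F.map prod.snd (F.map (c j) b) = F.map (q.symm j) b := fun j b => by
    rw [← FintypeCat.comp_apply, ← F.map_comp, prod.lift_snd]
  haveI : IsIso (F.map d) := by
    refine (ConcreteCategory.isIso_iff_bijective _).2 ⟨?_, fun p => ?_⟩
    · intro s t hst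
      obtain ⟨⟨i⟩, b, rfl⟩ := Limits.FintypeCat.jointly_surjective (Discrete.functor (fun _ : Fin n => A) ⋙ F) _
        (isColimitOfPreserves F (coproductIsCoproduct (fun _ : Fin n => A))) s
      obtain ⟨⟨j⟩, b', rfl⟩ := Limits.FintypeCat.jointly_surjective (Discrete.functor (fun _ : Fin n => A) ⋙ F) _
        (isColimitOfPreserves F (coproductIsCoproduct (fun _ : Fin n => A))) t
      have e : F.map (c i) b = F.map (c j) b' := (hval i b).symm.trans (hst.trans (hval j b'))
      obtain rfl : b = b' := (hfst i b).symm.trans ((congrArg _ e).trans (hfst j b'))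
      obtain rfl : i = j := q.symm.injective ((hb b).1
        ((hsnd i b).symm.trans ((congrArg _ e).trans (hsnd j b))))
      rfl
    · obtain ⟨f, hf⟩ := (hb (F.map prod.fst p)).2 (F.map prod.snd p)
      refine ⟨F.map (Sigma.ι (fun _ : Fin n => A) (q f)) (F.map prod.fst p), ?_⟩
      apply (fiberBinaryProductEquiv F A X).injective
      obtain ⟨⟨b, x⟩, rfl⟩ := (fiberBinaryProductEquiv F A X).symm.surjective p
      simp only [fiberBinaryProductEquiv_symm_fst_apply, fiberBinaryProductEquiv_symm_snd_apply] at hf ⊢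
      rw [hval]
      obtain ⟨⟨b₁, x₁⟩, h₁⟩ := (fiberBinaryProductEquiv F A X).symm.surjective (F.map (c (q f)) b)
      have e₁ := hfst (q f) b
      have e₂ := hsnd (q f) b
      rw [← h₁, fiberBinaryProductEquiv_symm_fst_apply] at e₁
      rw [← h₁, fiberBinaryProductEquiv_symm_snd_apply, q.symm_apply_apply, hf] at e₂
      rw [← h₁, e₁, e₂]
  haveI : IsIso d := isIso_of_reflects_iso d F
  obtain ⟨l, hl₁, hl₂⟩ := BinaryFan.IsLimit.lift' (mapIsLimitOfPreservesOfIsLimit F' _ _ (prodIsProd A X))
    (FintypeCat.homMk fun _ : PUnit.{w + 1} => a : FintypeCat.of PUnit ⟶ F'.obj A)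
    (FintypeCat.homMk fun _ => y)
  have e₁ : F'.map prod.fst (l PUnit.unit) = a := ConcreteCategory.congr_hom hl₁ PUnit.unit
  have e₂ : F'.map prod.snd (l PUnit.unit) = y := ConcreteCategory.congr_hom hl₂ PUnit.unit
  haveI := preservesColimitsOfShape_discrete F' (Fin n)
  obtain ⟨⟨j⟩, b, hb'⟩ := Limits.FintypeCat.jointly_surjective (Discrete.functor (fun _ : Fin n => A) ⋙ F') _
    (isColimitOfPreserves F' (coproductIsCoproduct (fun _ : Fin n => A))) (F'.map (inv d) (l PUnit.unit))
  have hl : F'.map (c j) b = l PUnit.unit := by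
    have := congrArg (F'.map d) hb'
    rw [← FintypeCat.comp_apply (F'.map (inv d)), ← F'.map_comp, IsIso.inv_hom_id,
      CategoryTheory.Functor.map_id] at this
    refine Eq.trans ?_ this
    show _ = F'.map d (F'.map (Sigma.ι (fun _ : Fin n => A) j) b)
    rw [← FintypeCat.comp_apply, ← F'.map_comp, Sigma.ι_desc]
  refine ⟨q.symm j, ?_⟩
  rw [← hl, ← FintypeCat.comp_apply, ← F'.map_comp, prod.lift_fst, CategoryTheory.Functor.map_id] at e₁
  rw [← hl, ← FintypeCat.comp_apply, ← F'.map_comp, prod.lift_snd] at e₂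
  have e₁' : b = a := e₁
  subst e₁'
  exact e₂

theorem nonempty_iso : Nonempty (F' ≅ F) := by
  haveI : ∀ j : PointedGaloisObject F, Nonempty ((PointedGaloisObject.incl F ⋙ F' ⋙ FintypeCat.incl).obj j) :=
    fun j => nonempty_of_connected F' hF j.obj
  haveI : ∀ j : PointedGaloisObject F, Finite ((PointedGaloisObject.incl F ⋙ F' ⋙ FintypeCat.incl).obj j) :=
    fun j => inferInstanceAs (Finite (F'.obj j.obj))
  obtain ⟨α, hα⟩ := nonempty_sections_of_finite_cofiltered_system
    (PointedGaloisObject.incl F ⋙ F' ⋙ FintypeCat.incl)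
  have hsec : ∀ {A B : PointedGaloisObject F} (m : A ⟶ B), F'.map m.val (α A) = α B := fun m => hα m
  have hex : ∀ (X : C) (x : F.obj X), ∃ (A : PointedGaloisObject F) (f : A.obj ⟶ X), F.map f A.pt = x :=
    fun X x => by
      obtain ⟨A, a, hA, hbij⟩ := exists_galois_representative F X
      obtain ⟨f, hf⟩ := hbij.2 x
      exact ⟨⟨A, a, hA⟩, f, hf⟩
  have hwd : ∀ {X : C} (A B : PointedGaloisObject F) (f : A.obj ⟶ X) (g : B.obj ⟶ X),
      F.map f A.pt = F.map g B.pt → F'.map f (α A) = F'.map g (α B) := fun {X} A B f g h => by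
    obtain ⟨D, m₁, m₂, -⟩ := IsCofilteredOrEmpty.cone_objs A B
    have e : m₁.val ≫ f = m₂.val ≫ g := by
      apply evaluation_injective_of_isConnected F D.obj X D.pt
      simp only [F.map_comp, FintypeCat.comp_apply, m₁.comp, m₂.comp, h]
    rw [← hsec m₁, ← hsec m₂, ← FintypeCat.comp_apply, ← F'.map_comp, e, F'.map_comp]
    rfl
  choose A f hf using hex
  let θ : ∀ X : C, F.obj X → F'.obj X := fun X x => F'.map (f X x) (α (A X x))
  have hbij : ∀ X : C, Function.Bijective (θ X) := fun X => by
    obtain ⟨B, b, hB, hrep⟩ := exists_galois_representative F X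
    let P : PointedGaloisObject F := ⟨B, b, hB⟩
    have hθ : ∀ g : B ⟶ X, θ X (F.map g b) = F'.map g (α P) := fun g => hwd _ P _ g (hf X _)
    have hall : ∀ b' : F.obj B, Function.Bijective fun g : B ⟶ X => F.map g b' := fun b' => by
      obtain ⟨s, hs⟩ := MulAction.exists_smul_eq (Aut B) b b'
      have : (fun g : B ⟶ X => F.map g b') =
          (fun g : B ⟶ X => F.map g b) ∘ fun g => s.hom ≫ g := funext fun g => by
        simp only [Function.comp_apply, F.map_comp, FintypeCat.comp_apply]
        exact congrArg _ hs.symm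
      rw [this]
      exact hrep.comp ⟨fun g g' h => (cancel_epi s.hom).1 h, fun g => ⟨s.inv ≫ g, by simp⟩⟩
    refine ⟨fun x y h => ?_, fun y => ?_⟩
    · obtain ⟨g, rfl⟩ := hrep.2 x
      obtain ⟨g', rfl⟩ := hrep.2 y
      rw [hθ, hθ] at h
      exact congrArg (fun g : B ⟶ X => F.map g b) (evaluation_injective' F' (A := B) (α P) h)
    · obtain ⟨g, hg⟩ := evaluation_surjective' F F' hall (α P) y
      exact ⟨_, (hθ g).trans hg⟩
  refine ⟨(NatIso.ofComponents (fun X => FintypeCat.equivEquivIso (Equiv.ofBijective (θ X) (hbij X))) ?_).symm⟩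
  intro X Y g
  refine FintypeCat.hom_ext _ _ fun x => ?_
  show θ Y (F.map g x) = F'.map g (θ X x)
  refine (hwd _ (A X x) _ (f X x ≫ g) ?_).trans (by rw [F'.map_comp]; rfl)
  rw [hf, F.map_comp, FintypeCat.comp_apply, hf]

end Groth.Agent.GalCat

namespace Groth.Agent.GalCat

variable {C : Type u} [Category.{v} C] [GaloisCategory C]

/-- A functor preserving the terminal object and epimorphisms has empty values only on initial objects. -/
theorem isInitial_of_isEmpty (F : C ⥤ FintypeCat.{v}) [FiberFunctor F] (F' : C ⥤ FintypeCat.{w})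
    [PreservesFiniteLimits F'] [F'.PreservesEpimorphisms] (X : C) (hX : IsEmpty (F'.obj X)) :
    Nonempty (IsInitial X) := by
  rw [initial_iff_fiber_empty F X]
  refine ⟨fun x => ?_⟩
  obtain ⟨Y, i, y, -, hY, -, -, -⟩ := exists_component F x
  haveI : IsConnected (⊤_ C) := by
    obtain ⟨t⟩ := nonempty_fiber_terminal F
    haveI := subsingleton_fiber_terminal F
    exact isConnected_of_transitive F t fun t' => ⟨1, Subsingleton.elim _ _⟩
  haveI : Nonempty (F.obj Y) := ⟨y⟩
  haveI : Epi (terminal.from Y) := epi_of_nonempty_of_isConnected F _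
  have hs : Function.Surjective (F'.map (terminal.from Y)) :=
    surjective_of_epi (FintypeCat.incl.map (F'.map (terminal.from Y)))
  have ht : IsTerminal (F'.obj (⊤_ C)) := IsTerminal.isTerminalObj F' _ terminalIsTerminal
  obtain ⟨y', -⟩ := hs ((ht.from (FintypeCat.of PUnit.{w + 1})) PUnit.unit)
  exact hX.false (F'.map i y')

end Groth.Agent.GalCat
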